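import Cfsg.Agent.MK.Defs
import Cfsg.Agent.ODD.Red.Bas
import Cfsg.Agent.H672.RM.Main

/-!
# MK: basic facts on the counts `kk` (helper17)

* `kk_surj`, `kk_map`, `kk_top`, `kk_subgroupOf`, `kk_congr` : transport;
* `kk_eq_cnt`, `exists_hom`, `kk_eq_of_cnt` : the link with `H672.RM.Cnt` (Clifford theory: `cnt_clifford`,
  `card_eq_of_fibers`, `stepA`, `exists_iso`, `TSet.cnt_eq`);
* `IH.nm`, `IH.sub` : the induction hypothesis for subgroups;
* `Steps`, `SmRow`.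
-/

set_option autoImplicit false
set_option maxHeartbeats 400000

namespace Cfsg.Agent.MK

open Cfsg Subgroup Cfsg.Agent.ODD
open Cfsg.Agent.Characters.Core Cfsg.Agent.H672 Cfsg.Agent.H672.RM

/-- all general steps (hypotheses of the rows) -/
structure Steps : Prop where
  i : StepI
  y : StepY
  c : StepC
  cyc : StepCyc
  sm : StepSm
  core : Core

/-- a small row -/
def SmRow (K : Fam) : Prop :=
  ∀ (X : Type) [Group X] [Finite X], Cov K X → IsCyclic (center X) → IH (center X).index → Sm X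

theorem SmRow.row {K : Fam} (r : SmRow K) (h : StepSm) : Row K :=
  fun X _ _ c Γ s => h X Γ s (r X c s.cyc)

theorem IH.mono {m n : ℕ} (h : IH n) (hmn : m ≤ n) : IH m :=
  fun G _ _ Z hZ hi => h G Z hZ (hi.trans_le hmn)

section transport

variable {G G' : Type} [Group G] [Group G']

theorem OI.one_ne {χ : G → ℂ} (h : OI G χ) : χ 1 ≠ 0 := isIrr_apply_one_ne_zero h.1

theorem deg_comp (φ : G →* G') (χ : G' → ℂ) : charDegree (χ ∘ φ) = charDegree χ := by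
  unfold charDegree
  rw [Function.comp, map_one]

theorem OI.comp [Finite G] (φ : G →* G') (hφ : Function.Surjective φ) {χ : G' → ℂ} (h : OI G' χ) : OI G (χ ∘ φ) :=
  ⟨isIrr_comp φ hφ h.1, by rw [deg_comp]; exact h.2⟩

theorem Ov.l_one {H Z : Subgroup G} {l : G → ℂ} {ψ : H → ℂ} (h : Ov H Z l ψ) (h1 : ψ 1 ≠ 0) : l 1 = 1 := by
  have h2 := h 1 (one_mem Z)
  exact mul_right_cancel₀ h1 (h2.symm.trans (one_mul _).symm)

/-- **transport along a surjective homomorphism** (an isomorphism, or a quotient by a subgroup of `Z`) -/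
theorem kk_surj {H Z : Subgroup G} {H' Z' : Subgroup G'} [Finite H] {l : G → ℂ} {l' : G' → ℂ} (φ : H →* H')
    (hφ : Function.Surjective φ) (hZ : ∀ h : H, (φ h : G') ∈ Z' ↔ (h : G) ∈ Z)
    (hl : ∀ h : H, (h : G) ∈ Z → l' (φ h) = l h) : kk H' Z' l' = kk H Z l := by
  refine Nat.card_eq_of_bijective
    (fun ψ => (⟨ψ.1 ∘ φ, ψ.2.1.comp φ hφ, fun h hh => ?_⟩ : {ψ : H → ℂ // OI H ψ ∧ Ov H Z l ψ})) ⟨?_, ?_⟩
  · simp only [Function.comp, map_one]
    rw [ψ.2.2 (φ h) ((hZ h).2 hh), hl h hh]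
  · intro ψ ψ' h
    exact Subtype.ext (hφ.injective_comp_right (congrArg Subtype.val h))
  · rintro ⟨ψ, hψ, ho⟩
    have h1 : l 1 = 1 := ho.l_one hψ.one_ne
    have h2 : l' 1 = 1 := by
      have := hl 1 (one_mem Z)
      rw [map_one] at this
      exact this.trans h1
    obtain ⟨η, hη, he⟩ := ODD.Red.exists_quot φ hφ hψ.1 (fun z hz => by
      have h3 : φ z = 1 := hz
      have h4 : (z : G) ∈ Z := (hZ z).1 (by rw [h3]; exact one_mem Z')
      have h5 := hl z h4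
      rw [h3] at h5
      rw [ho z h4, ← h5]
      exact (congrArg (· * ψ 1) h2).trans (one_mul _))
    have he' : η ∘ φ = ψ := funext he
    refine ⟨⟨η, ⟨hη, ?_⟩, fun h' hh' => ?_⟩, Subtype.ext he'⟩
    · rw [← deg_comp φ η, he']
      exact hψ.2
    · obtain ⟨h, rfl⟩ := hφ h'
      have h4 := (hZ h).1 hh'
      rw [he, ho h h4, hl h h4, ← map_one φ, he]

theorem kk_map {H Z : Subgroup G} {Z' : Subgroup G'} [Finite H] {l : G → ℂ} {l' : G' → ℂ} (f : G →* G')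
    (hZ : ∀ h ∈ H, f h ∈ Z' ↔ h ∈ Z) (hl : ∀ h ∈ H, h ∈ Z → l' (f h) = l h) :
    kk (H.map f) Z' l' = kk H Z l :=
  kk_surj (f.subgroupMap H) (f.subgroupMap_surjective H) (fun h => hZ h h.2) fun h => hl h h.2

/-- pull back along a surjective homomorphism -/
theorem kk_comap [Finite G] (f : G →* G') (hf : Function.Surjective f) (H' Z' : Subgroup G') (l' : G' → ℂ) :
    kk (H'.comap f) (Z'.comap f) (l' ∘ f) = kk H' Z' l' := by
  have h := kk_map (H := H'.comap f) (Z := Z'.comap f) (Z' := Z') (l := l' ∘ f) (l' := l') f (fun _ _ => Iff.rfl)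
    (fun _ _ _ => rfl)
  rw [← h, map_comap_eq_self_of_surjective hf]

/-- only `H ⊓ Z` and the values of `l` on it matter -/
theorem kk_congr {H Z Z' : Subgroup G} {l l' : G → ℂ} (hZ : ∀ h ∈ H, h ∈ Z' ↔ h ∈ Z)
    (hl : ∀ h ∈ H, h ∈ Z → l' h = l h) : kk H Z' l' = kk H Z l := by
  refine Nat.card_congr (Equiv.subtypeEquivRight fun ψ => and_congr_right fun _ => ⟨fun h x hx => ?_, fun h x hx => ?_⟩)
  · rw [h x ((hZ x x.2).2 hx), hl x x.2 hx]
  · rw [h x ((hZ x x.2).1 hx), hl x x.2 ((hZ x x.2).1 hx)]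

/-- change of the ambient group -/
theorem kk_subgroupOf {H K : Subgroup G} [Finite H] (hHK : H ≤ K) (Z : Subgroup G) (l : G → ℂ) :
    kk (H.subgroupOf K) (Z.subgroupOf K) (fun k => l k) = kk H Z l :=
  kk_surj (subgroupOfEquivOfLe hHK).symm.toMonoidHom (subgroupOfEquivOfLe hHK).symm.surjective
    (fun _ => Iff.rfl) fun _ _ => rfl

theorem kk_top_sub (K Z : Subgroup G) [Finite K] (l : G → ℂ) :
    kk (⊤ : Subgroup K) (Z.subgroupOf K) (fun k => l k) = kk K Z l := by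
  rw [← kk_subgroupOf (le_refl K), subgroupOf_self]

theorem kk_top [Finite G] (Z : Subgroup G) (l : G → ℂ) :
    kk ⊤ Z l = Nat.card {χ : G → ℂ // OI G χ ∧ ∀ z ∈ Z, χ z = l z * χ 1} := by
  let e : (⊤ : Subgroup G) ≃* G := topEquiv
  refine Nat.card_congr
    { toFun := fun ψ => ⟨ψ.1 ∘ e.symm.toMonoidHom, ψ.2.1.comp _ e.symm.surjective, fun z hz => ψ.2.2 (e.symm z) hz⟩
      invFun := fun χ => ⟨χ.1 ∘ e.toMonoidHom, χ.2.1.comp _ e.surjective, fun z hz => χ.2.2 z hz⟩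
      left_inv := fun _ => rfl
      right_inv := fun _ => rfl }

/-- conjugate subgroups -/
theorem kk_conj [Finite G] {Z : Subgroup G} (hZ : Z ≤ center G) (H : Subgroup G) (g : G) (l : G → ℂ) :
    kk (H.map (MulAut.conj g).toMonoidHom) Z l = kk H Z l := by
  have h1 : ∀ z ∈ Z, (MulAut.conj g).toMonoidHom z = z := fun z hz => by
    change g * z * g⁻¹ = z
    rw [mem_center_iff.1 (hZ hz) g, mul_inv_cancel_right]
  refine kk_map _ (fun h _ => ⟨fun hh => ?_, fun hh => by rw [h1 h hh]; exact hh⟩) fun h _ hh => by rw [h1 h hh]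
  have h2 := h1 _ hh
  rwa [(MulAut.conj g).injective h2] at hh

end transport

section cnt

variable {G : Type} [Group G] [Finite G]

theorem ov_iff_over {H Z : Subgroup G} (hZH : Z ≤ H) (hc : ∀ z ∈ Z, ∀ h ∈ H, h * z = z * h) {l : G → ℂ}
    {m : Z →* ℂˣ} (hm : ∀ z : Z, l z = m z) {ψ : H → ℂ} (hψ : IsIrrCharacter H ψ) :
    Ov H Z l ψ ↔ Over (inclusion hZH) ψ (lf m) := by
  rw [over_lin_iff (inclusion hZH) (fun z => mem_center_iff.2 fun h => Subtype.ext (hc z z.2 h h.2)) hψ]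
  constructor
  · intro h z
    rw [h (inclusion hZH z) z.2, mul_comm, ← hm]
    rfl
  · intro h x hx
    rw [hm ⟨x, hx⟩, mul_comm]
    exact h ⟨x, hx⟩

theorem kk_eq_cnt {H Z : Subgroup G} (hZH : Z ≤ H) (hc : ∀ z ∈ Z, ∀ h ∈ H, h * z = z * h) {l : G → ℂ}
    {m : Z →* ℂˣ} (hm : ∀ z : Z, l z = m z) : kk H Z l = Cnt 2 (inclusion hZH) (lf m) := by
  refine Nat.card_congr
    { toFun := fun ψ => ⟨⟨ψ.1, ψ.2.1.1⟩, Odd.not_two_dvd_nat ψ.2.1.2, (ov_iff_over hZH hc hm ψ.2.1.1).1 ψ.2.2⟩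
      invFun := fun χ => ⟨χ.1.1, ⟨χ.1.2, Nat.odd_iff.2 (Nat.two_dvd_ne_zero.1 χ.2.1)⟩,
        (ov_iff_over hZH hc hm χ.1.2).2 χ.2.2⟩
      left_inv := fun _ => rfl
      right_inv := fun _ => rfl }

/-- if some irreducible character lies over `l`, then `l` is a linear character of `Z` -/
theorem exists_hom {H Z : Subgroup G} (hZH : Z ≤ H) (hc : ∀ z ∈ Z, ∀ h ∈ H, h * z = z * h) {l : G → ℂ}
    {ψ : H → ℂ} (hψ : IsIrrCharacter H ψ) (ho : Ov H Z l ψ) : ∃ m : Z →* ℂˣ, ∀ z : Z, l z = m z := by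
  have h0 := isIrr_apply_one_ne_zero hψ
  have h1 : ∀ (z : Z) (h : H), ψ (inclusion hZH z * h) = l z * ψ h := by
    intro z h
    obtain ⟨c, hc1, -, -⟩ := ODD.Red.exists_central hψ (z := inclusion hZH z)
      (mem_center_iff.2 fun h => Subtype.ext (hc z z.2 h h.2))
    have h2 := hc1 1
    rw [mul_one, ho _ z.2] at h2
    rw [hc1, ← mul_right_cancel₀ h0 h2]
    rfl
  let m : Z →* ℂ :=
    { toFun := fun z => l z
      map_one' := ho.l_one h0
      map_mul' := fun a b => by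
        refine mul_right_cancel₀ h0 ?_
        rw [← h1 (a * b) 1, map_mul, mul_assoc, h1, h1, mul_assoc] }
  exact ⟨m.toHomUnits, fun _ => rfl⟩

theorem kk_eq_zero {H Z : Subgroup G} (hZH : Z ≤ H) (hc : ∀ z ∈ Z, ∀ h ∈ H, h * z = z * h) {l : G → ℂ}
    (h : ¬ ∃ m : Z →* ℂˣ, ∀ z : Z, l z = m z) : kk H Z l = 0 := by
  have : IsEmpty {ψ : H → ℂ // OI H ψ ∧ Ov H Z l ψ} := ⟨fun ψ => h (exists_hom hZH hc ψ.2.1.1 ψ.2.2)⟩
  exact Nat.card_of_isEmpty

/-- one may assume that `l` is a linear character of `Z` -/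
theorem kk_eq_of_hom {H H' Z : Subgroup G} (hZ : Z ≤ center G) (hZH : Z ≤ H) (hZH' : Z ≤ H') {l : G → ℂ}
    (h : ∀ m : Z →* ℂˣ, (∀ z : Z, l z = m z) → kk H Z l = kk H' Z l) : kk H Z l = kk H' Z l := by
  by_cases hm : ∃ m : Z →* ℂˣ, ∀ z : Z, l z = m z
  · obtain ⟨m, hm⟩ := hm
    exact h m hm
  · rw [kk_eq_zero hZH (fun z hz x _ => mem_center_iff.1 (hZ hz) x) hm,
      kk_eq_zero hZH' (fun z hz x _ => mem_center_iff.1 (hZ hz) x) hm]

theorem kk_eq_of_cnt {H H' Z : Subgroup G} (hZ : Z ≤ center G) (hZH : Z ≤ H) (hZH' : Z ≤ H') {l : G → ℂ}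
    (h : ∀ m : Z →* ℂˣ, (∀ z : Z, l z = m z) → Cnt 2 (inclusion hZH) (lf m) = Cnt 2 (inclusion hZH') (lf m)) :
    kk H Z l = kk H' Z l :=
  kk_eq_of_hom hZ hZH hZH' fun m hm => by
    rw [kk_eq_cnt hZH (fun z hz x _ => mem_center_iff.1 (hZ hz) x) hm,
      kk_eq_cnt hZH' (fun z hz x _ => mem_center_iff.1 (hZ hz) x) hm, h m hm]

end cnt

section ih

variable {G : Type} [Group G] [Finite G] {n : ℕ}

omit [Finite G] in
/-- a `2`-subgroup of odd index is a Sylow subgroup -/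
theorem exists_sylow {P : Subgroup G} (hP : IsPGroup 2 P) (ho : Odd P.index) : ∃ S : Sylow 2 G, (S : Subgroup G) = P :=
  ⟨hP.toSylow (Odd.not_two_dvd_nat ho), rfl⟩

/-- the induction hypothesis for a subgroup `K` -/
theorem IH.nm (h : IH n) {K Z P : Subgroup G} (hc : ∀ z ∈ Z, ∀ k ∈ K, k * z = z * k)
    (hn : Z.relIndex K < n) (hPK : P ≤ K) (hP : IsPGroup 2 P) (ho : Odd (P.relIndex K)) (l : G → ℂ) :
    kk K Z l = kk (K ⊓ normalizer (P : Set G)) Z l := by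
  obtain ⟨S, hS⟩ := exists_sylow (P := P.subgroupOf K) (hP.comap_subtype) ho
  have h1 := h K (Z.subgroupOf K) (fun z hz => mem_center_iff.2 fun k => Subtype.ext (hc z hz k k.2)) hn
    (fun k => l k) S
  rw [kk_top_sub, hS, ← subgroupOf_normalizer_eq hPK, ← inf_subgroupOf_left, kk_subgroupOf inf_le_left] at h1
  exact h1

/-- the induction hypothesis for two subgroups `N_K(P) ≤ H ≤ K` -/
theorem IH.sub (h : IH n) {K H Z P : Subgroup G} (hZH : Z ≤ H) (hHK : H ≤ K)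
    (hc : ∀ z ∈ Z, ∀ k ∈ K, k * z = z * k) (hn : Z.relIndex K < n) (hPK : P ≤ K) (hP : IsPGroup 2 P)
    (ho : Odd (P.relIndex K)) (hN : K ⊓ normalizer (P : Set G) ≤ H) (l : G → ℂ) : kk K Z l = kk H Z l := by
  have hPH : P ≤ H := le_trans (le_inf hPK le_normalizer) hN
  have h1 : Z.relIndex H < n := by
    refine lt_of_le_of_lt (Nat.le_of_dvd (Nat.pos_of_ne_zero (rne _ _)) ?_) hn
    exact ⟨_, (relIndex_mul_relIndex _ _ _ hZH hHK).symm⟩
  have h2 : Odd (P.relIndex H) := Odd.of_dvd_nat ho ⟨_, (relIndex_mul_relIndex _ _ _ hPH hHK).symm⟩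
  rw [h.nm hc hn hPK hP ho, h.nm (fun z hz k hk => hc z hz k (hHK hk)) h1 hPH hP h2,
    le_antisymm (le_inf hN inf_le_right) (inf_le_inf_right _ hHK)]

end ih

end Cfsg.Agent.MK
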