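import Cfsg.Agent.ODD.Defs

/-!
# MK (S4596, the McKay equality for the prime two): the interface (helper17)

Plan: `notes/MK/plan.md`.

* `kk H Z l` : the number of irreducible characters of odd degree of `H` with the central character `l` on `Z`;
* `McK`, `IH` : the relative equality and the induction hypothesis;
* `Sit X Γ` : a quasisimple group with a group of automorphisms; `Conf` : a group `G` with components `≃ X`;
* `Eqv Γ Λ Λ'` : the subgroups of `G` defined by `Λ`, `Λ' ≤ Γ` have the same count; `Gd X Γ`, `Row K`, `Box`;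
* the steps `StepI` (induction), `StepY` (Yokonuma-Hecke), `StepC` (Clifford), `StepCyc`, `StepSm`, `StepF`, and `Core`, `Red`.
-/

set_option autoImplicit false
set_option maxHeartbeats 400000

namespace Cfsg.Agent.MK

open Cfsg Subgroup Cfsg.Agent.ODD
open scoped ComplexConjugate

/-! ### the counts -/

/-- irreducible of odd degree -/
def OI (G : Type) [Group G] (χ : G → ℂ) : Prop := IsIrrCharacter G χ ∧ Odd (charDegree χ)

section count

variable {G : Type} [Group G]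

/-- the function `ψ` on `H` lies over `l` on `Z` -/
def Ov (H Z : Subgroup G) (l : G → ℂ) (ψ : H → ℂ) : Prop := ∀ h : H, (h : G) ∈ Z → ψ h = l h * ψ 1

/-- the number of irreducible characters of odd degree of `H` over `l` -/
noncomputable def kk (H Z : Subgroup G) (l : G → ℂ) : ℕ := Nat.card {ψ : H → ℂ // OI H ψ ∧ Ov H Z l ψ}

/-- `l` is faithful on `Z` -/
def Fa (Z : Subgroup G) (l : G → ℂ) : Prop := ∀ z ∈ Z, l z = 1 → z = 1

end count

/-- the relative McKay equality -/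
def McK (G : Type) [Group G] (Z : Subgroup G) : Prop :=
  ∀ (l : G → ℂ) (P : Sylow 2 G), kk ⊤ Z l = kk (normalizer ((P : Subgroup G) : Set G)) Z l

/-- the induction hypothesis -/
def IH (n : ℕ) : Prop :=
  ∀ (G : Type) [Group G] [Finite G] (Z : Subgroup G), Z ≤ center G → Z.index < n → McK G Z

/-! ### components -/

section comp

variable {X : Type} [Group X]

/-- the inner automorphisms induced by `H` -/
def Cj (H : Subgroup X) : Subgroup (MulAut X) := H.map MulAut.conj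

/-- the elements which induce automorphisms in `Λ` -/
def In (Λ : Subgroup (MulAut X)) : Subgroup X := Λ.comap MulAut.conj

/-- the automorphisms in `Γ` which normalise `E` -/
def Nm (Γ : Subgroup (MulAut X)) (E : Subgroup X) : Subgroup (MulAut X) where
  carrier := {α | α ∈ Γ ∧ ∀ x, α x ∈ E ↔ x ∈ E}
  one_mem' := ⟨one_mem _, fun _ => Iff.rfl⟩
  mul_mem' ha hb := ⟨mul_mem ha.1 hb.1, fun x => (ha.2 _).trans (hb.2 x)⟩
  inv_mem' := fun {a} ha => ⟨inv_mem ha.1, fun x => by rw [← ha.2, MulAut.apply_inv_self]⟩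

/-- the automorphisms in `Λ` which fix `θ` -/
def St (Λ : Subgroup (MulAut X)) (θ : X → ℂ) : Subgroup (MulAut X) where
  carrier := {α | α ∈ Λ ∧ ∀ x, θ (α x) = θ x}
  one_mem' := ⟨one_mem _, fun _ => rfl⟩
  mul_mem' ha hb := ⟨mul_mem ha.1 hb.1, fun x => (ha.2 _).trans (hb.2 x)⟩
  inv_mem' := fun {a} ha => ⟨inv_mem ha.1, fun x => by rw [← ha.2, MulAut.apply_inv_self]⟩

theorem conj_map (α : MulAut X) (x : X) : MulAut.conj (α x) = α * MulAut.conj x * α⁻¹ := by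
  ext y
  simp

theorem map_mem_In {Λ : Subgroup (MulAut X)} {α : MulAut X} (h : α ∈ Λ) {x : X} (hx : x ∈ In Λ) : α x ∈ In Λ := by
  change MulAut.conj (α x) ∈ Λ
  rw [conj_map]
  exact mul_mem (mul_mem h hx) (inv_mem h)

/-- the action of `Λ` on `In Λ` -/
def rs (Λ : Subgroup (MulAut X)) : Λ →* MulAut (In Λ) where
  toFun α :=
    { toFun := fun k => ⟨α.1 k, map_mem_In α.2 k.2⟩
      invFun := fun k => ⟨α.1⁻¹ k, map_mem_In (inv_mem α.2) k.2⟩
      left_inv := fun k => Subtype.ext (by simp)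
      right_inv := fun k => Subtype.ext (by simp)
      map_mul' := fun a b => Subtype.ext (by simp) }
  map_one' := rfl
  map_mul' _ _ := rfl

theorem rs_coe (Λ : Subgroup (MulAut X)) (α : Λ) (k : In Λ) : ((rs Λ α k : In Λ) : X) = α.1 k := rfl

/-- `Λ` is a supplement of the inner automorphisms in `Γ` -/
structure Supp (Γ Λ : Subgroup (MulAut X)) : Prop where
  le : Λ ≤ Γ
  sup : ∀ α ∈ Γ, ∃ x : X, ∃ β ∈ Λ, α = MulAut.conj x * β

variable (X) in
/-- the situation of a row -/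
structure Sit (Γ : Subgroup (MulAut X)) : Prop where
  qs : IsQuasisimple X
  odd : Odd (Nat.card (center X))
  cyc : IsCyclic (center X)
  inn : ∀ x : X, MulAut.conj x ∈ Γ
  fix : ∀ α ∈ Γ, ∀ z ∈ center X, α z = z
  /-- `Γ / Inn X` has a normal Sylow `2`-subgroup -/
  cl : ∃ R : Subgroup (MulAut X), R ≤ Γ ∧ (∀ x : X, MulAut.conj x ∈ R) ∧ (∀ α ∈ Γ, ∀ β ∈ R, α * β * α⁻¹ ∈ R) ∧
    (∀ β ∈ R, ∃ (k : ℕ) (x : X), β ^ 2 ^ k = MulAut.conj x) ∧ Odd (R.relIndex Γ)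
  ih : IH (Nat.card Γ)

/-- a finite group `G` which permutes copies `e i` of `X`; `G / Z` embeds into `Γ ≀ Perm ι` -/
structure Conf (Γ : Subgroup (MulAut X)) (G : Type) [Group G] (Z : Subgroup G) (ι : Type) where
  e : ι → (X →* G)
  π : G →* Equiv.Perm ι
  a : G → ι → MulAut X
  inj : ∀ i, Function.Injective (e i)
  ha : ∀ g i x, g * e i x * g⁻¹ = e (π g i) (a g i x)
  mem : ∀ g i, a g i ∈ Γ
  onto : ∀ i j, ∀ α ∈ Γ, ∃ g, π g i = j ∧ a g i = α
  ne : Nonempty ι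
  comm : ∀ i j, i ≠ j → ∀ x y, e i x * e j y = e j y * e i x
  pie : ∀ i x, π (e i x) = 1
  cen : Z ≤ center G
  ker : ∀ g, π g = 1 → (∀ i, a g i = 1) → g ∈ Z
  odd : Odd (Nat.card Z)
  /-- `G / (Z * ∏ X i)` has a normal Sylow `2`-subgroup -/
  cl : ∃ R : Subgroup G, R.Normal ∧ Z ⊔ (⨆ i, (e i).range) ≤ R ∧
    (∀ g ∈ R, ∃ k : ℕ, g ^ 2 ^ k ∈ Z ⊔ ⨆ i, (e i).range) ∧ Odd R.index
  ih : IH Z.index

namespace Conf

variable {Γ : Subgroup (MulAut X)} {G : Type} [Group G] {Z : Subgroup G} {ι : Type} (c : Conf Γ G Z ι)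

theorem a_mul (g h : G) (i : ι) : c.a (g * h) i = c.a g (c.π h i) * c.a h i := by
  ext x
  refine c.inj (c.π (g * h) i) ?_
  rw [← c.ha, map_mul, Equiv.Perm.mul_apply, MulAut.mul_apply, ← c.ha, ← c.ha]
  group

theorem a_one (i : ι) : c.a 1 i = 1 := by
  have h := c.a_mul 1 1 i
  rw [mul_one, map_one, Equiv.Perm.one_apply] at h
  exact mul_eq_left.1 h.symm

theorem a_inv (g : G) (i : ι) : c.a g⁻¹ i = (c.a g (c.π g⁻¹ i))⁻¹ := by
  have h := c.a_mul g g⁻¹ i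
  rw [mul_inv_cancel, c.a_one] at h
  exact (inv_eq_of_mul_eq_one_right h.symm).symm

/-- the subgroup of `G` defined by `Λ` -/
def hat (Λ : Subgroup (MulAut X)) : Subgroup G where
  carrier := {g | ∀ i, c.a g i ∈ Λ}
  one_mem' i := by rw [c.a_one]; exact one_mem _
  mul_mem' ha hb i := by rw [c.a_mul]; exact mul_mem (ha _) (hb _)
  inv_mem' ha i := by rw [c.a_inv]; exact inv_mem (ha _)

end Conf

/-- `Λ` and `Λ'` give the same count in all configurations -/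
def Eqv (Γ Λ Λ' : Subgroup (MulAut X)) : Prop :=
  ∀ (G : Type) [Group G] [Finite G] (Z : Subgroup G) (ι : Type) [Fintype ι] (c : Conf Γ G Z ι) (l : G → ℂ), Fa Z l →
    kk (c.hat Λ) Z l = kk (c.hat Λ') Z l

theorem Eqv.refl (Γ Λ : Subgroup (MulAut X)) : Eqv Γ Λ Λ := fun _ _ _ _ _ _ _ _ _ => rfl

theorem Eqv.symm {Γ Λ Λ' : Subgroup (MulAut X)} (h : Eqv Γ Λ Λ') : Eqv Γ Λ' Λ :=
  fun G _ _ Z ι _ c l hl => (h G Z ι c l hl).symm

theorem Eqv.trans {Γ Λ Λ' Λ'' : Subgroup (MulAut X)} (h : Eqv Γ Λ Λ') (h' : Eqv Γ Λ' Λ'') : Eqv Γ Λ Λ'' :=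
  fun G _ _ Z ι _ c l hl => (h G Z ι c l hl).trans (h' G Z ι c l hl)

variable (X) in
/-- what a row delivers -/
def Gd (Γ : Subgroup (MulAut X)) : Prop :=
  ∃ (Λ : Subgroup (MulAut X)) (Q : Sylow 2 X), Λ ≤ Γ ∧ Λ ≠ Γ ∧ Nm Γ Q ≤ Λ ∧ Eqv Γ Γ Λ

end comp

/-- **a row** -/
def Row (K : Fam) : Prop :=
  ∀ (X : Type) [Group X] [Finite X], Cov K X → ∀ Γ : Subgroup (MulAut X), Sit X Γ → Gd X Γ

/-- all rows -/
structure Box : Prop where
  alt : Row fun S _ => IsAlternating S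
  two : Row fun S _ => IsLieTypeChar 2 S
  psl : Row PslO
  psu : Row PsuO
  psp : Row PspO
  podd : Row fun S _ => IsPOmegaOdd S
  plus : Row PlusO
  minus : Row MinusO
  g2 : Row (ChevO Lie.chevG2)
  f4 : Row (ChevO Lie.chevF4)
  e6 : Row (ChevO Lie.chevE6)
  e7 : Row (ChevO Lie.chevE7)
  e8 : Row (ChevO Lie.chevE8)
  tw : Row TwE6O
  d4 : Row TwD4O
  ree : Row fun S _ => Lie.IsoRee S
  tits : Row fun S _ => Lie.IsoTits S
  spor : Row fun S _ => IsSporadicGroup S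

/-- all situations are good -/
def AllGd : Prop := ∀ (X : Type) [Group X] [Finite X] (Γ : Subgroup (MulAut X)), Sit X Γ → Gd X Γ

/-- the equality in the critical case -/
def Crit : Prop :=
  ∀ (X : Type) [Group X] [Finite X] (Γ : Subgroup (MulAut X)) (G : Type) [Group G] [Finite G] (Z : Subgroup G)
    (ι : Type) [Fintype ι] (_ : Conf Γ G Z ι), Sit X Γ → ∀ l, Fa Z l → ∀ P : Sylow 2 G,
    kk ⊤ Z l = kk (normalizer ((P : Subgroup G) : Set G)) Z l

/-- **the reduction** -/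
def Red : Prop := Crit → ∀ n, IH n

/-- the last step -/
def StepF : Prop := AllGd → Crit

/-! ### the induction step -/

/-- `Λ'` contains the normaliser in `Λ` of a Sylow `2`-subgroup `Q` of `In Λ` -/
def StepI : Prop :=
  ∀ (X : Type) [Group X] [Finite X] (Γ Λ Λ' : Subgroup (MulAut X)) (Q : Subgroup X), Sit X Γ → Supp Γ Λ → Λ ≠ Γ →
    Λ' ≤ Λ → Q ≤ In Λ → IsPGroup 2 Q → Odd (Q.relIndex (In Λ)) → Nm Λ Q ≤ Λ' → Eqv Γ Λ Λ'

/-! ### the Yokonuma-Hecke step -/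

/-- a Bruhat decomposition `H = U N U` with a length function on `N` -/
structure YD {G : Type} [Group G] (H U N : Subgroup G) (len : G → ℕ) : Prop where
  uH : U ≤ H
  nH : N ≤ H
  cover : ∀ h ∈ H, ∃ u ∈ U, ∃ n ∈ N, ∃ v ∈ U, h = u * n * v
  uniq : ∀ n ∈ N, ∀ n' ∈ N, ∀ u ∈ U, ∀ v ∈ U, u * n * v = n' → n = n'
  one : len 1 = 0
  inv : ∀ n ∈ N, len n⁻¹ = len n
  zero : ∀ t ∈ N, len t = 0 → (∀ u ∈ U, t * u * t⁻¹ ∈ U) ∧ ∀ n ∈ N, len (t * n) = len n
  step : ∀ s ∈ N, len s = 1 → ∀ n ∈ N, len (s * n) = len n + 1 ∨ len (s * n) + 1 = len n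
  desc : ∀ n ∈ N, len n ≠ 0 → ∃ s ∈ N, len s = 1 ∧ len (s * n) + 1 = len n
  up : ∀ s ∈ N, len s = 1 → ∀ n ∈ N, len (s * n) = len n + 1 → ∀ u ∈ U, ∃ u' ∈ U, ∃ v ∈ U, s * u * n = u' * (s * n) * v
  quad : ∀ s ∈ N, len s = 1 → ∀ u ∈ U, s * u * s⁻¹ ∈ U ∨
    ∃ t ∈ N, len t = 0 ∧ ∃ u' ∈ U, ∃ v ∈ U, s * u * s⁻¹ = u' * (t * s⁻¹) * v

/-- the dimension of the fixed space of `U` -/
noncomputable def mu {G : Type} [Group G] (H U : Subgroup G) (χ : H → ℂ) : ℂ :=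
  (Nat.card (U.subgroupOf H) : ℂ)⁻¹ * ∑ᶠ u : U.subgroupOf H, χ u

/-- **the deformation theorem** -/
def Core : Prop :=
  ∀ (G : Type) [Group G] [Finite G] (H U N Z : Subgroup G) (len : G → ℕ) (l : G → ℂ) (d : ℕ), YD H U N len →
    Z ≤ center G → Z ≤ N → (∀ z ∈ Z, len z = 0) → d ≠ 0 →
    Nat.card {χ : H → ℂ // IsIrrCharacter H χ ∧ Ov H Z l χ ∧ mu H U χ = d} =
      Nat.card {ψ : N → ℂ // IsIrrCharacter N ψ ∧ Ov N Z l ψ ∧ charDegree ψ = d}

/-- the data in a component -/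
structure YX {X : Type} [Group X] (Γ Θ : Subgroup (MulAut X)) (H U N : Subgroup X) (len : X → ℕ) : Prop where
  yd : YD H U N len
  supp : Supp Γ Θ
  hU : ∀ α ∈ Θ, ∀ u ∈ U, α u ∈ U
  hN : ∀ α ∈ Θ, ∀ n ∈ N, α n ∈ N ∧ len (α n) = len n
  inn : ∀ x : X, MulAut.conj x ∈ Θ ↔ x ∈ N ∧ len x = 0
  odd : Odd (Nat.card U)
  nofix : ∃ D ≤ Θ, IsPGroup 2 D ∧ ∀ u ∈ U, (∀ α ∈ D, α u = u) → u = 1

/-- the global form -/
def StepY : Prop :=
  ∀ (X : Type) [Group X] [Finite X] (Γ Θ : Subgroup (MulAut X)) (H U N : Subgroup X) (len : X → ℕ), Sit X Γ →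
    YX Γ Θ H U N len → Eqv Γ (Cj H ⊔ Θ) (Cj N ⊔ Θ)

/-! ### the Clifford step -/

section cliff

variable {X : Type} [Group X]

/-- the characters of `X` which matter -/
def SA (Λ : Subgroup (MulAut X)) (l : X → ℂ) : Set (X → ℂ) :=
  {θ | OI X θ ∧ (∀ z ∈ center X, θ z = l z * θ 1) ∧ ∀ α ∈ Λ, (∃ k : ℕ, α ^ 2 ^ k = 1) → ∀ x, θ (α x) = θ x}

/-- the characters of `In Λ` which matter -/
def SB (Λ : Subgroup (MulAut X)) (l : X → ℂ) : Set (In Λ → ℂ) :=
  {ψ | OI (In Λ) ψ ∧ Ov (In Λ) (center X) l ψ ∧ ∀ α : Λ, (∃ k : ℕ, α ^ 2 ^ k = 1) → ∀ y, ψ (rs Λ α y) = ψ y}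

/-- the character `θ × conj ψ` of `X × In Λ` extends to the automorphisms in `S`, compatibly with the inner ones -/
def ExtOn (Λ S : Subgroup (MulAut X)) (θ : X → ℂ) (ψ : In Λ → ℂ) : Prop :=
  ∃ (A : Type) (_ : Group A) (j : X × In Λ →* A) (t : S →* A) (Ψ : A → ℂ), IsCharacter A Ψ ∧
    (∀ x y, Ψ (j (x, y)) = θ x * conj (ψ y)) ∧
    (∀ (α : S) (x : X) (y y' : In Λ), (y' : X) = α.1 y → t α * j (x, y) = j (α.1 x, y') * t α) ∧
    ∀ (y : In Λ) (h : MulAut.conj (y : X) ∈ S), t ⟨_, h⟩ = j (y, y)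

/-- an equivariant bijection with the extension property -/
structure CD (Λ : Subgroup (MulAut X)) (l : X → ℂ) (Ω : (X → ℂ) → In Λ → ℂ) : Prop where
  bij : Set.BijOn Ω (SA Λ l) (SB Λ l)
  eqv : ∀ θ ∈ SA Λ l, ∀ (α : Λ) (y : In Λ), Ω (fun x => θ (α.1 x)) y = Ω θ (rs Λ α y)
  ext : ∀ θ ∈ SA Λ l, ExtOn Λ (St Λ θ) θ (Ω θ)

/-- the number of the odd characters of `X` over `l` which are fixed by `α` -/
noncomputable def fA (l : X → ℂ) (α : MulAut X) : ℕ :=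
  Nat.card {θ : X → ℂ // OI X θ ∧ (∀ z ∈ center X, θ z = l z * θ 1) ∧ ∀ x, θ (α x) = θ x}

/-- the same for a subgroup `K` which is invariant under `α` -/
noncomputable def fB (K : Subgroup X) (l : X → ℂ) (α : MulAut X) : ℕ :=
  Nat.card {ψ : K → ℂ // OI K ψ ∧ Ov K (center X) l ψ ∧ ∀ y y' : K, (y' : X) = α y → ψ y' = ψ y}

/-- `Γ / Inn X` is cyclic -/
def Cyc (Γ : Subgroup (MulAut X)) : Prop := ∃ γ ∈ Γ, ∀ α ∈ Γ, ∃ (k : ℕ) (x : X), α = MulAut.conj x * γ ^ k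

/-- `α` generates a subgroup of odd index of `Γ / Inn X` -/
def Big (Γ : Subgroup (MulAut X)) (α : MulAut X) : Prop :=
  ∀ β ∈ Γ, ∃ (m k : ℕ) (x : X), Odd m ∧ β ^ m = MulAut.conj x * α ^ k

end cliff

/-- the Clifford step -/
def StepC : Prop :=
  ∀ (X : Type) [Group X] [Finite X] (Γ Λ : Subgroup (MulAut X)), Sit X Γ → Supp Γ Λ →
    (∀ l, Fa (center X) l → ∃ Ω, CD Λ l Ω) → Eqv Γ Γ Λ

/-- the cyclic case: numbers of fixed points are enough -/
def StepCyc : Prop :=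
  ∀ (X : Type) [Group X] [Finite X] (Γ Λ : Subgroup (MulAut X)), Sit X Γ → Supp Γ Λ → Cyc Γ →
    (∀ l, Fa (center X) l → ∀ α ∈ Λ, Big Γ α → fA l α = fB (In Λ) l α) → Eqv Γ Γ Λ

/-- **the small rows**: the automorphisms which centralise the centre form a cyclic group modulo the inner ones, and
the numbers of fixed characters agree for the normaliser of a Sylow `2`-subgroup -/
structure Sm (X : Type) [Group X] : Prop where
  cyc : ∃ γ : MulAut X, ∀ α : MulAut X, (∀ z ∈ center X, α z = z) → ∃ (k : ℕ) (x : X), α = MulAut.conj x * γ ^ k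
  cnt : ∃ Q : Sylow 2 X, ∀ l, Fa (center X) l → ∀ α : MulAut X, (∀ z ∈ center X, α z = z) →
    (∀ x, α x ∈ (Q : Subgroup X) ↔ x ∈ (Q : Subgroup X)) →
    fA l α = fB (normalizer ((Q : Subgroup X) : Set X)) l α

/-- small rows are rows; the induction hypothesis is available below the order of the central quotient -/
def StepSm : Prop :=
  ∀ (X : Type) [Group X] [Finite X] (Γ : Subgroup (MulAut X)), Sit X Γ → (IH (center X).index → Sm X) → Gd X Γ

end Cfsg.Agent.MK
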