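import Cfsg.Agent.S0000
import Cfsg.Agent.MK.Defs

/-!
# MK: the rows and the classification give `AllGd` (helper17)
-/

set_option autoImplicit false
set_option maxHeartbeats 400000

namespace Cfsg.Agent.MK

open Cfsg Subgroup Cfsg.Agent.ODD

theorem allGd_of (b : Box) : AllGd := by
  intro X _ _ Γ s
  have hX := s.qs
  have := hX.2
  have c : ∀ {K : Fam}, K (X ⧸ center X) → Cov K X := fun h => ⟨hX, s.odd, h⟩
  rcases known_cases (S0000.result (G := X ⧸ center X)) with h | (h | h | h | h | h | h | h | h | h | h | h | h | h) |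
    (h | h | h | h | h)
  · exact absurd h not_prime
  · exact b.alt X (c h) Γ s
  · exact b.two X (c h) Γ s
  · exact b.psp X (c h) Γ s
  · exact b.podd X (c h) Γ s
  · exact b.plus X (c h) Γ s
  · exact b.minus X (c h) Γ s
  · exact b.g2 X (c h) Γ s
  · exact b.f4 X (c h) Γ s
  · exact b.e7 X (c h) Γ s
  · exact b.e8 X (c h) Γ s
  · exact b.d4 X (c h) Γ s
  · exact b.ree X (c h) Γ s
  · exact b.spor X (c h) Γ s
  · exact b.psl X (c h) Γ s
  · exact b.psu X (c h) Γ s
  · exact b.e6 X (c h) Γ s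
  · exact b.tw X (c h) Γ s
  · exact b.tits X (c h) Γ s

end Cfsg.Agent.MK
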