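import Cfsg.Agent.MK.C.Main
import Cfsg.Agent.MK.H.Yk
import Cfsg.Agent.MK.Y.Core
import Cfsg.Agent.MK.E.Cyc

/-!
# MK: all general steps (helper17)
-/

set_option autoImplicit false

namespace Cfsg.Agent.MK

theorem steps : Steps where
  i := H.stepI
  y := H.stepY Y.core
  c := C.stepC
  cyc := E.stepCyc C.stepC
  sm := E.stepSm (E.stepCyc C.stepC)
  core := Y.core

end Cfsg.Agent.MK
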